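import Groth.Agent.FBaseLib.Basic
import Groth.Agent.FDescent.Generalizing
import Groth.Agent.FlatDense.Basic
import Groth.Agent.GrpSchLib.FieldDim
import Groth.Agent.S2500
import Mathlib.AlgebraicGeometry.Geometrically.Irreducible
import Mathlib.FieldTheory.IsAlgClosed.AlgebraicClosure

/-! The points over which a dense open contains all maximal points of the fibre of `G_K ⟶ G`. -/

set_option autoImplicit false
universe u
open CategoryTheory CategoryTheory.Limits AlgebraicGeometry Topology

namespace Groth.Agent.DenseMaxFibre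

/-- maximal points of a fibre, in terms of specialization -/
theorem closure_mem_components_iff {X Y : Scheme.{u}} (π : X ⟶ Y) (g : Y) (z : ↥(π.base ⁻¹' {g})) :
    closure {z} ∈ irreducibleComponents ↥(π.base ⁻¹' {g}) ↔ ∀ z' : X, π.base z' = g → z' ⤳ z.1 → z' = z.1 := by
  haveI : QuasiSober ↥(π.base ⁻¹' {g}) := (π.fiberHomeo g).symm.isClosedEmbedding.quasiSober
  constructor
  · intro h z' hz' hs
    exact congrArg Subtype.val (FDescent.eq_of_specializes_of_mem h (show IsGenericPoint z _ from rfl)
      (y := ⟨z', hz'⟩) (IsInducing.subtypeVal.specializes_iff.mp hs))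
  · intro h
    exact FDescent.closure_singleton_mem_components fun y hy =>
      Subtype.ext (h y.1 y.2 (IsInducing.subtypeVal.specializes_iff.mpr hy))

theorem isOpen_dense_of_field (k : Type u) [Field k] (K : Type u) [Field K] [Algebra k K]
    (G : Scheme.{u}) (f : G ⟶ Spec (CommRingCat.of k)) [LocallyOfFiniteType f]
    (W : (pullback f (Spec.map (CommRingCat.ofHom (algebraMap k K)))).Opens)
    (hW : Dense (W : Set ↥(pullback f (Spec.map (CommRingCat.ofHom (algebraMap k K)))))) :
    letI π := (pullback.fst f (Spec.map (CommRingCat.ofHom (algebraMap k K)))).base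
    letI U : Set G := {g : G | ∀ z : ↥(π ⁻¹' {g}), closure {z} ∈ irreducibleComponents ↥(π ⁻¹' {g}) → z.1 ∈ W}
    IsOpen U ∧ Dense U := by
  let sK := Spec.map (CommRingCat.ofHom (algebraMap k K))
  let Kb := AlgebraicClosure K
  let kb := AlgebraicClosure k
  let e : kb →ₐ[k] Kb := IsAlgClosed.lift
  let sk := Spec.map (CommRingCat.ofHom (algebraMap k kb))
  let se := Spec.map (CommRingCat.ofHom e.toRingHom)
  let sb := Spec.map (CommRingCat.ofHom (algebraMap K Kb))
  let π : pullback f sK ⟶ G := pullback.fst f sK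
  let q : pullback f sk ⟶ G := pullback.fst f sk
  let π' : pullback (pullback.snd f sk) se ⟶ pullback f sk := pullback.fst (pullback.snd f sk) se
  have hse : se ≫ sk = sb ≫ sK := by
    simp only [se, sk, sb, sK, ← Spec.map_comp, ← CommRingCat.ofHom_comp]
    congr 2
    exact e.comp_algebraMap.trans (IsScalarTower.algebraMap_eq k K Kb)
  have hcond : (π' ≫ q) ≫ f = (pullback.snd (pullback.snd f sk) se ≫ sb) ≫ sK := by
    rw [Category.assoc, pullback.condition, pullback.condition_assoc, Category.assoc, hse]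
  let r : pullback (pullback.snd f sk) se ⟶ pullback f sK := pullback.lift _ _ hcond
  have hrπ : r ≫ π = π' ≫ q := pullback.lift_fst _ _ _
  have hbig : IsPullback (π' ≫ q) (pullback.snd (pullback.snd f sk) se) f (sb ≫ sK) :=
    hse ▸ (IsPullback.of_hasPullback (pullback.snd f sk) se).paste_horiz (IsPullback.of_hasPullback f sk)
  have hr : IsPullback r (pullback.snd (pullback.snd f sk) se) (pullback.snd f sK) sb := by
    refine IsPullback.of_right ?_ (pullback.lift_snd _ _ _) (IsPullback.of_hasPullback f sK)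
    rw [pullback.lift_fst]
    exact hbig
  have hsurj : ∀ {A B : Type u} [Field A] [Field B] (φ : A →+* B), Surjective (Spec.map (CommRingCat.ofHom φ)) :=
    fun φ => ⟨fun x => ⟨IsLocalRing.closedPoint _, Subsingleton.elim (α := PrimeSpectrum _) _ _⟩⟩
  haveI : Flat sb := (HasRingHomProperty.Spec_iff (P := @Flat)).mpr
    ((RingHom.flat_algebraMap_iff (R := K) (S := Kb)).mpr inferInstance)
  haveI : Flat r := MorphismProperty.of_isPullback hr.flip inferInstance
  haveI : Surjective sb := hsurj _
  haveI : Surjective r := MorphismProperty.of_isPullback hr.flip inferInstance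
  haveI : Flat sK := (HasRingHomProperty.Spec_iff (P := @Flat)).mpr
    ((RingHom.flat_algebraMap_iff (R := k) (S := K)).mpr inferInstance)
  haveI : Flat π := MorphismProperty.pullback_fst _ _ inferInstance
  haveI : IsIntegralHom sk := IsIntegralHom.SpecMap_iff.mpr
    ((algebraMap_isIntegral_iff (R := k) (A := kb)).mpr inferInstance)
  haveI : Surjective sk := hsurj _
  haveI : Surjective sK := hsurj _
  haveI : Surjective q := MorphismProperty.pullback_fst _ _ inferInstance
  haveI : Surjective π := MorphismProperty.pullback_fst _ _ inferInstance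
  haveI : GeometricallyIrreducible se := Groth.Agent.S2500.result se
  haveI : UniversallyOpen se := inferInstance
  haveI : GeometricallyIrreducible π' := inferInstance
  haveI : UniversallyOpen π' := inferInstance
  -- generic points of the geometric fibres
  have hξ : ∀ h : ↥(pullback f sk), ∃ ξ, π'.base ξ = h ∧ ∀ z, π'.base z = h → ξ ⤳ z := by
    intro h
    haveI : IrreducibleSpace ↥(π'.base ⁻¹' {h}) := (π'.fiberHomeo h).irreducibleSpace_iff.mp inferInstance
    haveI : QuasiSober ↥(π'.base ⁻¹' {h}) := (π'.fiberHomeo h).symm.isClosedEmbedding.quasiSober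
    exact ⟨(genericPoint ↥(π'.base ⁻¹' {h})).1, (genericPoint ↥(π'.base ⁻¹' {h})).2, fun z hz =>
      IsInducing.subtypeVal.specializes_iff.mpr (genericPoint_specializes (⟨z, hz⟩ : ↥(π'.base ⁻¹' {h})))⟩
  let Wb : Set ↥(pullback (pullback.snd f sk) se) := r.base ⁻¹' W
  have hWb : IsOpen Wb := W.2.preimage r.continuous
  have hrπx : ∀ x, π.base (r.base x) = q.base (π'.base x) := fun x => by
    rw [← Scheme.Hom.comp_apply, hrπ, Scheme.Hom.comp_apply]
  have key : ∀ g : G, (∀ z : ↥(π.base ⁻¹' {g}), closure {z} ∈ irreducibleComponents ↥(π.base ⁻¹' {g}) → z.1 ∈ W) ↔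
      g ∉ q.base '' (π'.base '' Wb)ᶜ := by
    intro g
    constructor
    · rintro hg ⟨h, hh, rfl⟩
      obtain ⟨ξ, hξ1, hξ2⟩ := hξ h
      refine hh ⟨ξ, ?_, hξ1⟩
      refine hg ⟨r.base ξ, by simp [hrπx, hξ1]⟩ ((closure_mem_components_iff π _ _).mpr fun z' hz' hs => ?_)
      obtain ⟨w, hw, rfl⟩ := Flat.generalizingMap r hs
      have h1 : π'.base w ⤳ h := hξ1 ▸ hw.map π'.continuous
      have h2 : π'.base w = h :=
        GrpSchLib.eq_of_specializes_of_isIntegralHom q h1 (by rw [← hrπx]; exact hz')
      rw [(hw.antisymm (hξ2 w h2)).eq]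
    · intro hg z hz
      rw [closure_mem_components_iff] at hz
      obtain ⟨z', hz'⟩ := r.surjective z.1
      have hq : q.base (π'.base z') = g := by rw [← hrπx, hz']; exact z.2
      obtain ⟨ξ, hξ1, hξ2⟩ := hξ (π'.base z')
      have hmem : π'.base z' ∈ π'.base '' Wb := by
        by_contra h
        exact hg ⟨_, h, hq⟩
      obtain ⟨w, hw, hwe⟩ := hmem
      have hξW : r.base ξ ∈ W := ((hξ2 w hwe).map r.continuous).mem_open W.2 hw
      rwa [hz (r.base ξ) (by rw [hrπx, hξ1, hq]) (hz' ▸ (hξ2 z' rfl).map r.continuous)] at hξW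
  have hU : IsOpen {g : G | ∀ z : ↥(π.base ⁻¹' {g}), closure {z} ∈ irreducibleComponents ↥(π.base ⁻¹' {g}) → z.1 ∈ W} := by
    rw [show {g : G | ∀ z : ↥(π.base ⁻¹' {g}), closure {z} ∈ irreducibleComponents ↥(π.base ⁻¹' {g}) → z.1 ∈ W}
      = (q.base '' (π'.base '' Wb)ᶜ)ᶜ from Set.ext key]
    exact (q.isClosedMap _ (π'.isOpenMap _ hWb).isClosed_compl).isOpen_compl
  refine ⟨hU, ?_⟩
  haveI : IsLocallyNoetherian (pullback f sK) := LocallyOfFiniteType.isLocallyNoetherian (pullback.snd f sK)
  intro x
  obtain ⟨g, hgx, hgmax⟩ : ∃ g : G, g ⤳ x ∧ ∀ g', g' ⤳ g → g' = g := by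
    have hT := irreducibleComponent_mem_irreducibleComponents x
    have hxT := mem_irreducibleComponent (x := x)
    generalize irreducibleComponent x = T at hT hxT
    have hgen := hT.1.isGenericPoint_genericPoint (isClosed_of_mem_irreducibleComponents T hT)
    exact ⟨_, hgen.specializes hxT, fun g' hg' => FDescent.eq_of_specializes_of_mem hT hgen hg'⟩
  refine mem_closure_iff.mpr fun O hO hxO => ⟨g, hgx.mem_open hO hxO, fun z hz => ?_⟩
  rw [closure_mem_components_iff] at hz
  refine Groth.Agent.FlatDense.mem_of_dense_of_max_scheme W hW fun z' hs => hz z' ?_ hs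
  exact hgmax _ ((show π.base z.1 = g from z.2) ▸ hs.map π.continuous)

end Groth.Agent.DenseMaxFibre
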